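import Groth.Agent.Pi1.K546.Stmts
import Groth.Agent.Pi1.H394.Mu
import Groth.Agent.Pi1.H404.Chart
import Mathlib.Data.ZMod.Basic

/-!
# The action of the roots of unity on the scheme of `n`-th roots of a family of functions

`act`: the action of `(ℤ/n)^r` on `X'`, transitive on geometric fibres; `exists_act`: its restriction to the locus where
the functions do not vanish has no fixed points.
-/

set_option autoImplicit false
universe u

open CategoryTheory CategoryTheory.Limits AlgebraicGeometry IsLocalRing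

namespace K546.Action

open Groth.Agent.Pi1.H385.GaloisDesc

section Char

/-- The powers of an `n`-th root of unity, as a character of `ℤ/n`. -/
def char {B : Type*} [CommRing B] (n : ℕ) [NeZero n] (ζ : B) (hζ : ζ ^ n = 1) : Multiplicative (ZMod n) →* B where
  toFun γ := ζ ^ (Multiplicative.toAdd γ).val
  map_one' := by
    rw [toAdd_one, ZMod.val_zero, pow_zero]
  map_mul' γ δ := by
    rw [toAdd_mul, ZMod.val_add, ← pow_add]
    conv_rhs => rw [← Nat.div_add_mod ((Multiplicative.toAdd γ).val + (Multiplicative.toAdd δ).val) n, pow_add,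
      pow_mul, hζ, one_pow, one_mul]

theorem char_pow {B : Type*} [CommRing B] (n : ℕ) [NeZero n] (ζ : B) (hζ : ζ ^ n = 1) (γ : Multiplicative (ZMod n)) :
    char n ζ hζ γ ^ n = 1 := by
  change (ζ ^ (Multiplicative.toAdd γ).val) ^ n = 1
  rw [← pow_mul, mul_comm, pow_mul, hζ, one_pow]

theorem char_ofAdd {B : Type*} [CommRing B] (n : ℕ) [NeZero n] (ζ : B) (hζ : ζ ^ n = 1) (i : ℕ) (hi : i < n) :
    char n ζ hζ (Multiplicative.ofAdd (i : ZMod n)) = ζ ^ i := by
  change ζ ^ ((i : ZMod n)).val = ζ ^ i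
  rw [ZMod.val_natCast_of_lt hi]

end Char

section Twist

variable {n : ℕ} {X X' : Scheme.{u}} {p : X' ⟶ X} {r : ℕ} {t : Fin r → Γ(X, ⊤)} {z : Fin r → Γ(X', ⊤)}
  (h : IsRoots p t (fun _ => n) z)

include h in
theorem exists_twist (a : Fin r → Γ(X, ⊤)) (ha : ∀ i, a i ^ n = 1) :
    ∃! b : X' ⟶ X', b ≫ p = p ∧ ∀ i, b.appTop (z i) = p.appTop (a i) * z i :=
  h.univ p _ (fun i => by rw [mul_pow, ← map_pow, ha i, map_one, one_mul]; exact h.pow i)

/-- Multiplication of the roots by roots of unity. -/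
noncomputable def twist (a : Fin r → Γ(X, ⊤)) (ha : ∀ i, a i ^ n = 1) : X' ⟶ X' := (exists_twist h a ha).choose

theorem twist_p (a : Fin r → Γ(X, ⊤)) (ha : ∀ i, a i ^ n = 1) : twist h a ha ≫ p = p :=
  (exists_twist h a ha).choose_spec.1.1

theorem twist_z (a : Fin r → Γ(X, ⊤)) (ha : ∀ i, a i ^ n = 1) (i : Fin r) :
    (twist h a ha).appTop (z i) = p.appTop (a i) * z i :=
  (exists_twist h a ha).choose_spec.1.2 i

theorem eq_twist (a : Fin r → Γ(X, ⊤)) (ha : ∀ i, a i ^ n = 1) (b : X' ⟶ X') (hb : b ≫ p = p)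
    (hb' : ∀ i, b.appTop (z i) = p.appTop (a i) * z i) : b = twist h a ha :=
  (exists_twist h a ha).unique ⟨hb, hb'⟩ ⟨twist_p h a ha, twist_z h a ha⟩

theorem twist_one : twist h 1 (fun _ => one_pow n) = 𝟙 X' := by
  refine (eq_twist h 1 _ (𝟙 X') (Category.id_comp p) fun i => ?_).symm
  rw [Pi.one_apply, map_one, one_mul]
  simp

theorem twist_mul (a b : Fin r → Γ(X, ⊤)) (ha : ∀ i, a i ^ n = 1) (hb : ∀ i, b i ^ n = 1)
    (hab : ∀ i, (a * b) i ^ n = 1) : twist h (a * b) hab = twist h a ha ≫ twist h b hb := by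
  refine (eq_twist h (a * b) hab _ ?_ fun i => ?_).symm
  · rw [Category.assoc, twist_p, twist_p]
  · rw [Scheme.Hom.comp_appTop, CommRingCat.comp_apply, twist_z, map_mul, twist_z, ← CommRingCat.comp_apply,
      ← Scheme.Hom.comp_appTop, twist_p, Pi.mul_apply, map_mul]
    ring

end Twist

section Act

theorem appTop_appTop {X Y Z : Scheme.{u}} (a : Z ⟶ Y) (p : Y ⟶ X) (x : Γ(X, ⊤)) :
    a.appTop (p.appTop x) = (a ≫ p).appTop x := by
  rw [Scheme.Hom.comp_appTop, CommRingCat.comp_apply]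

/-- The scalars. -/
noncomputable abbrev sc {R : Type u} [CommRing R] {Y : Scheme.{u}} (g : Y ⟶ Spec (CommRingCat.of R)) : R →+* Γ(Y, ⊤) :=
  ((Scheme.ΓSpecIso (CommRingCat.of R)).inv ≫ g.appTop).hom

theorem sc_comp {R : Type u} [CommRing R] {Y Z : Scheme.{u}} (a : Z ⟶ Y) (g : Y ⟶ Spec (CommRingCat.of R)) (x : R) :
    a.appTop (sc g x) = sc (a ≫ g) x := by
  simp [sc]

theorem isUnit_sc {R : Type u} [CommRing R] {Y : Scheme.{u}} (g : Y ⟶ Spec (CommRingCat.of R)) (x : R)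
    (hx : IsUnit x) : IsUnit (sc g x) := hx.map _

variable {R : Type u} [CommRing R] {n : ℕ} {X X' : Scheme.{u}} (f : X ⟶ Spec (CommRingCat.of R)) {p : X' ⟶ X} {r : ℕ}
  {t : Fin r → Γ(X, ⊤)} {z : Fin r → Γ(X', ⊤)} (h : IsRoots p t (fun _ => n) z)

/-- The group. -/
abbrev Gp (n r : ℕ) : Type := Fin r → Multiplicative (ZMod n)

variable [NeZero n] (ζ : R) (hζ : ζ ^ n = 1)

/-- The functions by which the roots are multiplied. -/
noncomputable def coef (γ : Gp n r) (i : Fin r) : Γ(X, ⊤) := sc f (char n ζ hζ (γ i))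

theorem coef_one : coef f ζ hζ (1 : Gp n r) = 1 := by
  funext i
  simp only [coef, Pi.one_apply, map_one]

theorem coef_mul (γ δ : Gp n r) : coef f ζ hζ (γ * δ) = coef f ζ hζ γ * coef f ζ hζ δ := by
  funext i
  simp only [coef, Pi.mul_apply, map_mul]

theorem coef_pow (γ : Gp n r) (i : Fin r) : coef f ζ hζ γ i ^ n = 1 := by
  rw [coef, ← map_pow, char_pow, map_one]

/-- Two powers of the same value over a field differ by a power of a primitive root. -/
theorem exists_pow {K : Type*} [Field K] {ξ : K} (hξ : IsPrimitiveRoot ξ n) {α β : K} (h : α ^ n = β ^ n) :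
    ∃ l < n, ξ ^ l * α = β := by
  by_cases hα : α = 0
  · refine ⟨0, NeZero.pos n, ?_⟩
    rw [hα, zero_pow (NeZero.ne n)] at h
    rw [hα, mul_zero, (pow_eq_zero_iff (NeZero.ne n)).1 h.symm]
  · obtain ⟨l, hl, hl'⟩ := hξ.eq_pow_of_pow_eq_one (ξ := β / α) (by rw [div_pow, ← h, div_self (pow_ne_zero _ hα)])
    exact ⟨l, hl, by rw [hl', div_mul_cancel₀ _ hα]⟩

/-- The action on the scheme of roots. -/
noncomputable def act (hζ' : ∀ l, 0 < l → l < n → IsUnit (ζ ^ l - 1)) : Act p (Gp n r) where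
  r γ := twist h (coef f ζ hζ γ) (coef_pow f ζ hζ γ)
  r_one := by
    rw [← twist_one h]
    congr 1
    exact coef_one f ζ hζ
  r_mul γ δ := by
    rw [← twist_mul h _ _ _ _ (fun i => by rw [← coef_mul]; exact coef_pow f ζ hζ (γ * δ) i)]
    congr 1
    exact coef_mul f ζ hζ γ δ
  r_w γ := twist_p h _ _
  trans K _ _ a b hab := by
    let κ : Γ(Spec (CommRingCat.of K), ⊤) →+* K := (Scheme.ΓSpecIso (CommRingCat.of K)).hom.hom
    have hκ : Function.Injective κ := (Scheme.ΓSpecIso (CommRingCat.of K)).commRingCatIsoToRingEquiv.injective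
    let ρ : R →+* K := κ.comp (sc (a ≫ p ≫ f))
    have hξ : IsPrimitiveRoot (ρ ζ) n := by
      refine IsPrimitiveRoot.mk_of_lt _ (NeZero.pos n) (by rw [← map_pow, hζ, map_one]) ?_
      intro l hl hln h4
      have h5 := (hζ' l hl hln).map ρ
      rw [map_sub, map_pow, h4, map_one, sub_self] at h5
      exact not_isUnit_zero h5
    have key : ∀ i, ∃ l < n, (ρ ζ) ^ l * κ (a.appTop (z i)) = κ (b.appTop (z i)) := by
      intro i
      refine exists_pow hξ ?_
      have h1 : z i ^ n = p.appTop (t i) := h.pow i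
      rw [← map_pow, ← map_pow, ← map_pow, ← map_pow, h1, appTop_appTop, appTop_appTop, hab]
    choose l hl hl' using key
    refine ⟨fun i => Multiplicative.ofAdd ((l i : ℕ) : ZMod n), ?_⟩
    refine (h.univ (b ≫ p) (fun i => b.appTop (z i)) (fun i => ?_)).unique ⟨?_, fun i => ?_⟩ ⟨rfl, fun i => rfl⟩
    · have h1 : z i ^ n = p.appTop (t i) := h.pow i
      rw [← map_pow, h1, appTop_appTop]
    · rw [Category.assoc, twist_p, hab]
    · apply hκ
      rw [← hl' i, ← appTop_appTop, twist_z, map_mul, map_mul, appTop_appTop, coef, sc_comp,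
        char_ofAdd _ _ _ _ (hl i), Category.assoc, map_pow, map_pow]
      rfl

/-- The functions on the complement are invertible. -/
theorem isEmpty_fix (hζ' : ∀ l, 0 < l → l < n → IsUnit (ζ ^ l - 1)) (γ : Gp n r) (hγ : γ ≠ 1) {E : Scheme.{u}}
    (e : E ⟶ X') (he : e ≫ (act f h ζ hζ hζ').r γ = e) (hU : ∀ x : E, p (e x) ∈ SGA1t.compl t) : IsEmpty E := by
  obtain ⟨i, hi⟩ : ∃ i, γ i ≠ 1 := by
    by_contra hc
    push Not at hc
    exact hγ (funext hc)
  have hl0 : 0 < (Multiplicative.toAdd (γ i)).val := by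
    rw [Nat.pos_iff_ne_zero, Ne, ZMod.val_eq_zero]
    exact hi
  have hu : IsUnit (sc (e ≫ p ≫ f) (ζ ^ (Multiplicative.toAdd (γ i)).val - 1)) :=
    isUnit_sc _ _ (hζ' _ hl0 (ZMod.val_lt _))
  have h1 : e.appTop (z i) = sc (e ≫ p ≫ f) (ζ ^ (Multiplicative.toAdd (γ i)).val) * e.appTop (z i) := by
    conv_lhs => rw [← he]
    rw [← appTop_appTop]
    change e.appTop ((twist h (coef f ζ hζ γ) (coef_pow f ζ hζ γ)).appTop (z i)) = _
    rw [twist_z, map_mul, coef, sc_comp, sc_comp]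
    rfl
  have h2 : e.appTop (z i) = 0 := by
    refine hu.mul_right_eq_zero.1 ?_
    rw [map_sub, map_one, sub_mul, one_mul, ← h1, sub_self]
  refine ⟨fun x => ?_⟩
  have h3 : (e ≫ p).appTop (t i) = 0 := by
    have h4 : z i ^ n = p.appTop (t i) := h.pow i
    rw [← appTop_appTop, ← h4, map_pow, h2, zero_pow (NeZero.ne n)]
  have h5 : x ∈ (e ≫ p) ⁻¹ᵁ X.basicOpen (t i) := (Groth.Agent.Pi1.H404.Chart.mem_compl_iff _).1 (hU x) i
  rw [Scheme.preimage_basicOpen_top, h3, Scheme.basicOpen_zero] at h5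
  exact h5

end Act

/-- **The action of the roots of unity** on the scheme of roots. -/
theorem exists_act {R : Type u} [CommRing R] [HenselianLocalRing R] [IsSepClosed (ResidueField R)] (n : ℕ)
    (hn : IsUnit ((n : ℕ) : R)) {X X' : Scheme.{u}} (f : X ⟶ Spec (CommRingCat.of R)) (p : X' ⟶ X) {r : ℕ}
    (t : Fin r → Γ(X, ⊤)) (z : Fin r → Γ(X', ⊤)) (h : IsRoots p t (fun _ => n) z) :
    ∃ (Γ : Type) (_ : Group Γ) (_ : Finite Γ) (A : Act (p ∣_ SGA1t.compl t) Γ) (τ : Γ → (X' ⟶ X')),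
      (∀ γ, A.r γ ≫ (p ⁻¹ᵁ SGA1t.compl t).ι = (p ⁻¹ᵁ SGA1t.compl t).ι ≫ τ γ) ∧
        ∀ γ, γ ≠ 1 → IsEmpty ↥(equalizer (A.r γ) (𝟙 _)) := by
  have hn1 : NeZero n := by
    constructor
    rintro rfl
    rw [Nat.cast_zero] at hn
    exact not_isUnit_zero hn
  obtain ⟨ζ, hζ, hζ'⟩ := Groth.Agent.Pi1.H394.Mu.exists_primitive (R := R) n hn
  let A₀ := act f h ζ hζ hζ'
  have sq : IsPullback (p ⁻¹ᵁ SGA1t.compl t).ι (p ∣_ SGA1t.compl t) p (SGA1t.compl t).ι :=
    (isPullback_morphismRestrict p _).flip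
  refine ⟨Gp n r, inferInstance, inferInstance, A₀.baseChange sq, A₀.r, A₀.baseChange_r_fst sq, fun γ hγ => ?_⟩
  refine isEmpty_fix f h ζ hζ hζ' γ hγ (equalizer.ι _ _ ≫ (p ⁻¹ᵁ SGA1t.compl t).ι) ?_ fun x => ?_
  · rw [Category.assoc, ← A₀.baseChange_r_fst sq γ, equalizer.condition_assoc, Category.id_comp]
  · exact (equalizer.ι ((A₀.baseChange sq).r γ) (𝟙 _) x).2

end K546.Action
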