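import Groth.Agent.Pi1.H385.GaloisDesc
import Groth.Prelude.Def_SGA1t

/-!
# Adjoining roots of a finite family of functions

`IsRoots p t m z`: `p : X' ⟶ X` is universal for the adjunction of an `m i`-th root `z i` of the global function
`t i` of `X`, for every `i`.
-/

set_option autoImplicit false
universe u

open CategoryTheory CategoryTheory.Limits AlgebraicGeometry

namespace K546

/-- `p : X' ⟶ X` is universal for the adjunction of an `m i`-th root `z i` of `t i` for every `i`. -/
structure IsRoots {X X' : Scheme.{u}} (p : X' ⟶ X) {r : ℕ} (t : Fin r → Γ(X, ⊤)) (m : Fin r → ℕ)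
    (z : Fin r → Γ(X', ⊤)) : Prop where
  pow : ∀ i, z i ^ m i = p.appTop (t i)
  univ : ∀ {P : Scheme.{u}} (a : P ⟶ X) (y : Fin r → Γ(P, ⊤)), (∀ i, y i ^ m i = a.appTop (t i)) →
    ∃! b : P ⟶ X', b ≫ p = a ∧ ∀ i, b.appTop (z i) = y i

end K546
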