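import Groth.Agent.Pi1.K154.KumPair

/-!
# Principal covers of the complement of a relative strict normal crossings divisor extend over a scheme on
# which the equations have roots

`preimage_compl`: the inverse image of the complement is the complement of the divisor of the roots.
`exists_ext`: a principal cover of order `n` of the complement extends, after pull back, to a finite étale cover of
every affine `X' ⟶ X` on which the equations have `n`-th roots that cut out a relative strict normal crossings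
divisor.
`ff`: restriction of finite étale covers to the complement is fully faithful.
-/

set_option autoImplicit false
universe u v

open CategoryTheory CategoryTheory.Limits AlgebraicGeometry Opposite

namespace K546.Ext

open Groth.Agent Groth.Agent.Pi1 Groth.Agent.Pi1.H415.Stmts Groth.Agent.Sga4B.ConstLC K154

theorem preimage_compl {X X' : Scheme.{u}} (p : X' ⟶ X) {r : ℕ} {t : Fin r → Γ(X, ⊤)} {z : Fin r → Γ(X', ⊤)}
    {n : ℕ} (hn : n ≠ 0) (hz : ∀ i, z i ^ n = p.appTop (t i)) : p ⁻¹ᵁ SGA1t.compl t = SGA1t.compl z := by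
  ext x
  change p x ∈ SGA1t.compl t ↔ x ∈ SGA1t.compl z
  rw [H404.Chart.mem_compl_iff, H404.Chart.mem_compl_iff]
  refine forall_congr' fun i => ?_
  have h2 : p ⁻¹ᵁ X.basicOpen (t i) = X'.basicOpen (z i) := by
    rw [Scheme.preimage_basicOpen_top, ← hz i, Scheme.basicOpen_pow _ _ (Nat.pos_of_ne_zero hn)]
  rw [← h2]
  rfl

/-- Restriction of finite étale covers to the complement is fully faithful. -/
theorem ff {X S : Scheme.{u}} {f : X ⟶ S} {r : ℕ} {t : Fin r → Γ(X, ⊤)} (hD : SGA1t.IsRelSNC f t) :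
    (FEt.restrict (SGA1t.compl t).ι).Full ∧ (FEt.restrict (SGA1t.compl t).ι).Faithful :=
  KumPair.fullyFaithful _ (fun g _ => H404.UnitIso.comap_bijective hD g (Fin 2))

/-- Principal covers of the complement extend over the scheme of the roots of the equations. -/
theorem exists_ext (hA : Abh.{u}) (hK : KumGal.{u}) {X X' S : Scheme.{u}} (f : X ⟶ S) {r : ℕ}
    (t : Fin r → Γ(X, ⊤)) (hD : SGA1t.IsRelSNC f t) (p : X' ⟶ X) [IsAffineHom p] (z : Fin r → Γ(X', ⊤))
    (G : Type v) [Group G] [Finite G] (hz : ∀ i, z i ^ Nat.card G = p.appTop (t i))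
    (hD' : SGA1t.IsRelSNC (p ≫ f) z)
    (hn : ∀ x : X, x ∉ SGA1t.compl t → IsUnit ((Nat.card G : ℕ) : X.residueField x))
    (V : FEt.Cat (SGA1t.compl t : Scheme.{u})) (ρ : G →* Aut V) (hV : SGA1t.IsPrincipal G V ρ) :
    ∃ W : FEt.Cat X', Nonempty ((FEt.restrict (p ⁻¹ᵁ SGA1t.compl t).ι).obj W ≅
      (FEt.restrict (p ∣_ SGA1t.compl t)).obj V) := by
  have hU' : p ⁻¹ᵁ SGA1t.compl t = SGA1t.compl z := preimage_compl p Nat.card_pos.ne' hz
  have hLC : ∀ (O : X'.Opens), O = SGA1t.compl z →
      ∀ {T : Scheme.{u}} (g : T ⟶ X') [Etale g],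
        Function.Bijective (LocallyConstant.comap (Z := G) (cmap (pullback.fst g O.ι))) := by
    rintro _ rfl T g _
    exact H404.UnitIso.comap_bijective hD' g G
  have hV' := H408.PrincRestrict.isPrincipal_restrict (p ∣_ SGA1t.compl t) V ρ hV
  refine GlobExt.exists_extension _ hV' (fun T => ?_) (fun x' => ?_)
  · have : Etale T.hom := T.prop
    exact hLC _ hU' T.hom
  · by_cases hx' : x' ∈ p ⁻¹ᵁ SGA1t.compl t
    · let V' := (FEt.restrict (p ∣_ SGA1t.compl t)).obj V
      have hE' : Etale V'.hom := V'.prop.2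
      obtain ⟨y, hy⟩ := hV'.1 ⟨x', hx'⟩
      refine ⟨GlobExt.down V'.hom, y, ?_, ⟨GlobExt.ofSl (GlobExt.q1 V'.hom) (GlobExt.q1_h V'.hom)⟩⟩
      exact congrArg (p ⁻¹ᵁ SGA1t.compl t).ι hy
    · have hx : p x' ∉ SGA1t.compl t := hx'
      have hvan : Nonempty (SGA1t.vanishingAt t (p x')) := by
        by_contra h1
        apply hx
        rw [H404.Chart.mem_compl_iff]
        intro i
        by_contra h2
        exact h1 ⟨⟨i, h2⟩⟩
      obtain ⟨E, e, he, y, hy, s, hs⟩ := LocSec.exists_local hA hK f t hD p z G hz V ρ hV x' hvan (hn _ hx)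
      exact ⟨Scheme.Etale.mk e, y, hy, ⟨GlobExt.ofSl (T := Scheme.Etale.mk e)
        (pullback.lift (f := V.hom) (g := p ∣_ SGA1t.compl t) s (pullback.snd e _) hs)
        (pullback.lift_snd _ _ _)⟩⟩

end K546.Ext
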