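import Groth.Agent.Pi1.K546.Main

/-!
# Base change of principal covers of the complement of a relative strict normal crossings divisor in a proper
# scheme over a strictly henselian local ring, from the two statements about schemes of roots
-/

set_option autoImplicit false
universe u

open CategoryTheory CategoryTheory.Limits AlgebraicGeometry IsLocalRing

namespace K546.Final

open K546.Setup K546.Main

theorem isPullback_resLE {X Y : Scheme.{u}} {f : X ⟶ Y} {V : Y.Opens} {V' : X.Opens} (e : V' = f ⁻¹ᵁ V)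
    (hle : V' ≤ f ⁻¹ᵁ V) : IsPullback (f.resLE V V' hle) V'.ι V.ι f := by
  subst e
  rw [Scheme.Hom.resLE_eq_morphismRestrict]
  exact isPullback_morphismRestrict f V

section

variable (hRoots : RootsStmt.{u}) (hAct : ActStmt.{u}) {R R' : Type u} [CommRing R] [CommRing R']
    [HenselianLocalRing R] [HenselianLocalRing R'] [IsSepClosed (ResidueField R)] [IsSepClosed (ResidueField R')]
    [Algebra R R'] [IsLocalHom (algebraMap R R')] {X Y : Scheme.{u}} (f : X ⟶ Spec (CommRingCat.of R)) [IsProper f]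
    {k : Y ⟶ X} {g : Y ⟶ Spec (CommRingCat.of R')}
    (sq : IsPullback k g f (Spec.map (CommRingCat.ofHom (algebraMap R R'))))
    {r : ℕ} (t : Fin r → Γ(X, ⊤)) (hD : SGA1t.IsRelSNC f t)
    (C : Type) [Group C] [Finite C] (hn : IsUnit ((Nat.card C : ℕ) : R))
    (hle : SGA1t.compl (fun i => k.appTop (t i)) ≤ k ⁻¹ᵁ SGA1t.compl t)

include hRoots hAct sq hD hn in
/-- Injectivity. -/
theorem injective (P Q : FEt.Cat (SGA1t.compl t : Scheme.{u})) (ρ : C →* Aut P) (τ : C →* Aut Q)
    (hP : SGA1t.IsPrincipal C P ρ) (hQ : SGA1t.IsPrincipal C Q τ)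
    (h : ∃ e' : (FEt.restrict (k.resLE (SGA1t.compl t) (SGA1t.compl (fun i => k.appTop (t i))) hle)).obj P ≅
        (FEt.restrict (k.resLE (SGA1t.compl t) (SGA1t.compl (fun i => k.appTop (t i))) hle)).obj Q,
      ∀ g : C, (FEt.restrict (k.resLE (SGA1t.compl t) (SGA1t.compl (fun i => k.appTop (t i))) hle)).map (ρ g).hom ≫
        e'.hom = e'.hom ≫
          (FEt.restrict (k.resLE (SGA1t.compl t) (SGA1t.compl (fun i => k.appTop (t i))) hle)).map (τ g).hom) :
    ∃ e : P ≅ Q, ∀ g : C, (ρ g).hom ≫ e.hom = e.hom ≫ (τ g).hom := by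
  obtain ⟨D⟩ := exists_kumData hRoots hAct f sq t hD (Nat.card C) hn hle
  exact exists_iso D C rfl P Q ρ τ hP hQ h

include hRoots hAct sq hD hn in
/-- Surjectivity. -/
theorem surjective (P' : FEt.Cat (SGA1t.compl (fun i => k.appTop (t i)) : Scheme.{u})) (ρ' : C →* Aut P')
    (hP' : SGA1t.IsPrincipal C P' ρ') :
    ∃ (P : FEt.Cat (SGA1t.compl t : Scheme.{u})) (ρ : C →* Aut P), SGA1t.IsPrincipal C P ρ ∧
      ∃ e : (FEt.restrict (k.resLE (SGA1t.compl t) (SGA1t.compl (fun i => k.appTop (t i))) hle)).obj P ≅ P',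
        ∀ g : C, (FEt.restrict (k.resLE (SGA1t.compl t) (SGA1t.compl (fun i => k.appTop (t i))) hle)).map (ρ g).hom ≫
          e.hom = e.hom ≫ (ρ' g).hom := by
  obtain ⟨D⟩ := exists_kumData hRoots hAct f sq t hD (Nat.card C) hn hle
  have sqT : IsPullback (k.resLE (SGA1t.compl t) (SGA1t.compl (fun i => k.appTop (t i))) hle)
      ((SGA1t.compl (fun i => k.appTop (t i))).ι ≫ g) ((SGA1t.compl t).ι ≫ f)
      (Spec.map (CommRingCat.ofHom (algebraMap R R'))) :=
    (isPullback_resLE (Groth.Agent.Pi1.H404.RelSNCBC.compl_pb k) hle).paste_vert sq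
  exact exists_cover' D sqT (fun Y f _ _ => nonempty_pullback Y f)
    (fun E hE h => clopen_eq_empty f sq t hD hle E hE h) C rfl P' ρ' hP'

end

/-- the order of the group is a unit on the strict henselisation -/
theorem isUnit_natCast {S : Scheme.{u}} (s : S) (R : Type u) [CommRing R] [IsLocalRing R]
    [Algebra (S.presheaf.stalk s) R] (n : ℕ) (hn : IsUnit ((n : ℕ) : S.residueField s)) : IsUnit ((n : ℕ) : R) := by
  have h1 : IsUnit ((n : ℕ) : S.presheaf.stalk s) := by
    refine (isUnit_map_iff (IsLocalRing.residue (S.presheaf.stalk s)) _).1 ?_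
    rw [map_natCast]
    exact hn
  have h2 := h1.map (algebraMap (S.presheaf.stalk s) R)
  rwa [map_natCast] at h2

end K546.Final
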