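import Groth.Agent.Pi1.K546.Setup
import Groth.Agent.EtAcyc.K548.PrinLocus

/-!
# Base change of principal covers of the complement of a relative strict normal crossings divisor in a proper
# scheme over a strictly henselian local ring

`exists_iso`: injectivity; `exists_cover`: surjectivity.
-/

set_option autoImplicit false
universe u

open CategoryTheory CategoryTheory.Limits AlgebraicGeometry IsLocalRing

namespace K546.Main

open Groth.Agent.Pi1.H385.FF Groth.Agent.Pi1.H385.AbsM Groth.Agent.Pi1.H385.AbsE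
  Groth.Agent.Pi1.H385.GaloisDesc Groth.Agent.Pi1A.FEtAffine Groth.Agent.Pi1.H382.EBc K546.Setup

section Iso

variable {n : ℕ} {T₁ U₁ U₂ : Scheme.{u}} {q₁ : U₁ ⟶ T₁} {y : U₂ ⟶ U₁} (D : KumData n q₁ y)

/-- Morphisms of covers which extend over the Kummer modification are detected on `U₂`. -/
theorem bijective_map (P Q : FEt.Cat U₁) (hP : Ext D.ϖ₁ D.i₁ P.hom) (hQ : Ext D.ϖ₁ D.i₁ Q.hom) :
    Function.Bijective (fun α : P ⟶ Q => (FEt.restrict y).map α) := by
  have := D.eqv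
  have := D.int
  have := D.surj
  let _ := D.grp
  have := D.fin
  have hy : FF (D.y' ≫ D.i₁) := by
    rw [← D.w]
    exact D.ff₂.comp (FF.of_isEquivalence D.x)
  have key := fun (b : ((FEt.restrict y).obj P).left ⟶ Q.left) (hb : b ≫ Q.hom = ((FEt.restrict y).obj P).hom ≫ y) =>
    existsUnique_map D.sqU D.ff₁ hy Q.prop (isPullback y P) hP hQ D.A D.τ D.hτ b hb
  have hb : ∀ β : (FEt.restrict y).obj P ⟶ (FEt.restrict y).obj Q,
      (β.left ≫ proj y Q) ≫ Q.hom = ((FEt.restrict y).obj P).hom ≫ y := by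
    intro β
    rw [Category.assoc, (isPullback y Q).w, ← Category.assoc, hom_w]
  constructor
  · intro α α' h
    apply MorphismProperty.Over.Hom.ext
    have h1 : ((FEt.restrict y).map α).left = ((FEt.restrict y).map α').left := congrArg (fun β => β.left) h
    refine (key _ (hb ((FEt.restrict y).map α))).unique ⟨hom_w α, ?_⟩ ⟨hom_w α', ?_⟩
    · rw [map_left_proj]
    · rw [h1, map_left_proj]
  · intro β
    obtain ⟨a, ⟨ha1, ha2⟩, -⟩ := key _ (hb β)
    refine ⟨MorphismProperty.Over.homMk a ha1, ?_⟩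
    apply hom_ext_restrict
    exact (map_left_proj y (MorphismProperty.Over.homMk a ha1 : P ⟶ Q)).trans ha2

include D in
/-- **Injectivity.** -/
theorem exists_iso (G : Type) [Group G] [Finite G] (hG : Nat.card G = n) (P Q : FEt.Cat U₁) (ρ : G →* Aut P)
    (τ : G →* Aut Q) (hP : SGA1t.IsPrincipal G P ρ) (hQ : SGA1t.IsPrincipal G Q τ)
    (h : ∃ e' : (FEt.restrict y).obj P ≅ (FEt.restrict y).obj Q,
      ∀ g : G, (FEt.restrict y).map (ρ g).hom ≫ e'.hom = e'.hom ≫ (FEt.restrict y).map (τ g).hom) :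
    ∃ e : P ≅ Q, ∀ g : G, (ρ g).hom ≫ e.hom = e.hom ≫ (τ g).hom := by
  obtain ⟨e', he'⟩ := h
  have hP' := D.ext₁ G hG P ρ hP
  have hQ' := D.ext₁ G hG Q τ hQ
  obtain ⟨α, hα⟩ := (bijective_map D P Q hP' hQ').2 e'.hom
  obtain ⟨β, hβ⟩ := (bijective_map D Q P hQ' hP').2 e'.inv
  have hα' : (FEt.restrict y).map α = e'.hom := hα
  have hβ' : (FEt.restrict y).map β = e'.inv := hβ
  refine ⟨⟨α, β, (bijective_map D P P hP' hP').1 ?_, (bijective_map D Q Q hQ' hQ').1 ?_⟩, fun g =>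
    (bijective_map D P Q hP' hQ').1 ?_⟩
  · change (FEt.restrict y).map (α ≫ β) = (FEt.restrict y).map (𝟙 P)
    rw [Functor.map_comp, hα', hβ', Iso.hom_inv_id, CategoryTheory.Functor.map_id]
  · change (FEt.restrict y).map (β ≫ α) = (FEt.restrict y).map (𝟙 Q)
    rw [Functor.map_comp, hα', hβ', Iso.inv_hom_id, CategoryTheory.Functor.map_id]
  · change (FEt.restrict y).map ((ρ g).hom ≫ α) = (FEt.restrict y).map (α ≫ (τ g).hom)
    rw [Functor.map_comp, Functor.map_comp, hα', he']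

end Iso

section Ess

/-- The principal locus is closed and open. -/
theorem isClopen_bad {Y : Scheme.{u}} (G : Type) [Group G] [Finite G] (P : FEt.Cat Y) (ρ : G →* Aut P) :
    IsClopen (K548.PrinLocus.bad G P ρ) := by
  refine ⟨K548.PrinLocus.isClosed_bad G P ρ, ?_⟩
  have h1 : IsFinite P.hom := P.prop.1
  have h2 : Etale P.hom := P.prop.2
  have h3 : IsOpenMap (pullback.fst P.hom P.hom ≫ P.hom) := Scheme.Hom.isOpenMap _
  refine (IsOpen.union P.hom.isClosedMap.isClosed_range.isOpen_compl (h3 _ ?_)).union ?_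
  · exact (isClopen_iUnion_of_finite fun c => K548.PrinLocus.isClopen_gr G P ρ c).compl.2
  · exact isOpen_iUnion fun c => isOpen_iUnion fun c' =>
      isOpen_iUnion fun _ => h3 _ ((K548.PrinLocus.isClopen_gr G P ρ c).inter (K548.PrinLocus.isClopen_gr G P ρ c')).2

/-- A cover with group action which becomes principal over `U₂` is principal if nonempty clopen subsets of `U₁` meet
the image of `U₂`. -/
theorem isPrincipal_of_restrict {U₁ U₂ : Scheme.{u}} (y : U₂ ⟶ U₁)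
    (hy : ∀ E : Set U₁, IsClopen E → y ⁻¹' E = ∅ → E = ∅) (G : Type) [Group G] [Finite G] (P : FEt.Cat U₁)
    (ρ : G →* Aut P) (P' : FEt.Cat U₂) (ρ' : G →* Aut P') (hP' : SGA1t.IsPrincipal G P' ρ') (h : EBc y ρ ρ') :
    SGA1t.IsPrincipal G P ρ := by
  obtain ⟨e, he⟩ := h
  rw [K548.PrinLocus.isPrincipal_iff] at hP' ⊢
  have h1 : K548.PrinLocus.bad G P ρ = ∅ := by
    refine hy _ (isClopen_bad G P ρ) ?_
    rw [Set.eq_empty_iff_forall_notMem]
    intro v
    exact K548.PrinLocus.notMem_bad G P ρ y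
      (fun Ω _ _ ξ => (K548.PrinLocus.st_iff_of_iso G P ρ y P' ρ' e he ξ).2 (hP' Ω ξ)) v
  intro Ω _ _ ξ
  exact K548.PrinLocus.st_of_notMem G P ρ ξ (by rw [h1]; exact Set.notMem_empty _)

variable {n : ℕ} {T₁ T₂ U₁ U₂ : Scheme.{u}} {q₁ : U₁ ⟶ T₁} {q₂ : U₂ ⟶ T₂} {g : T₂ ⟶ T₁} {y : U₂ ⟶ U₁}
  (D : KumData n q₁ y) (sqT : IsPullback y q₂ q₁ g)
  (hg : ∀ (Y : Scheme.{u}) (f : Y ⟶ T₁) [IsProper f] [Nonempty Y], Nonempty ↥(pullback f g))
  (hy : ∀ E : Set U₁, IsClopen E → y ⁻¹' E = ∅ → E = ∅)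

include D sqT hg hy in
/-- **Surjectivity.** -/
theorem exists_cover' (G : Type) [Group G] [Finite G] (hG : Nat.card G = n) (P' : FEt.Cat U₂) (ρ' : G →* Aut P')
    (hP' : SGA1t.IsPrincipal G P' ρ') :
    ∃ (P : FEt.Cat U₁) (ρ : G →* Aut P), SGA1t.IsPrincipal G P ρ ∧ EBc y ρ ρ' := by
  have := D.eqv
  have := D.int
  have := D.surj
  let _ := D.grp
  have := D.fin
  have hy' : FF (D.y' ≫ D.i₁) := by
    rw [← D.w]
    exact D.ff₂.comp (FF.of_isEquivalence D.x)
  obtain ⟨V₁, Vh, v, hVh, hVe, sqv⟩ := exists_cover D.sqU sqT D.w D.ff₁ D.ff₂ hg D.A D.τ D.hτ D.hF P'.hom P'.prop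
    (D.ext₂ G hG P' ρ' hP')
  have hH := fun (b : P'.left ⟶ V₁) (hb : b ≫ Vh = P'.hom ≫ y) =>
    existsUnique_map D.sqU D.ff₁ hy' hVh sqv hVe hVe D.A D.τ D.hτ b hb
  have sqv' : IsPullback (show P'.left ⟶ (mk Vh hVh).left from v) P'.hom (mk Vh hVh).hom y := sqv
  obtain ⟨ρ, h1, h2⟩ := Groth.Agent.Pi1.H385.AbsG.exists_ebc (W := mk Vh hVh) sqv' ρ' hH
  exact ⟨mk Vh hVh, ρ, isPrincipal_of_restrict y hy G _ ρ P' ρ' hP' h2, h2⟩

end Ess

section Local

variable {R R' : Type u} [CommRing R] [IsLocalRing R] [CommRing R'] [IsLocalRing R'] [Algebra R R']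
  [IsLocalHom (algebraMap R R')]

theorem comap_closedPoint' : Spec.map (CommRingCat.ofHom (algebraMap R R')) (closedPoint R') = closedPoint R :=
  IsLocalRing.comap_closedPoint (algebraMap R R')

/-- Nonempty closed subsets of proper schemes over a local ring meet the closed fibre. -/
theorem exists_mem_closedFibre {Y : Scheme.{u}} (f : Y ⟶ Spec (CommRingCat.of R)) [IsProper f] (E : Set Y)
    (hE : IsClosed E) (hne : E.Nonempty) : ∃ x ∈ E, f x = closedPoint R := by
  have h1 : IsClosed (f '' E) := f.isClosedMap _ hE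
  obtain ⟨y₀, hy₀⟩ := hne
  have h2 : closedPoint R ∈ f '' E := by
    have h3 : (f y₀) ⤳ (closedPoint R : ↥(Spec (CommRingCat.of R))) :=
      (PrimeSpectrum.le_iff_specializes _ _).1 (IsLocalRing.le_maximalIdeal (f y₀).2.ne_top)
    exact h3.mem_closed h1 ⟨y₀, hy₀, rfl⟩
  exact h2

/-- Nonempty proper schemes over `R` stay nonempty over `R'`. -/
theorem nonempty_pullback (Y : Scheme.{u}) (f : Y ⟶ Spec (CommRingCat.of R)) [IsProper f] [Nonempty Y] :
    Nonempty ↥(pullback f (Spec.map (CommRingCat.ofHom (algebraMap R R')))) := by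
  obtain ⟨x, -, hx⟩ := exists_mem_closedFibre f Set.univ isClosed_univ ⟨Classical.arbitrary _, trivial⟩
  obtain ⟨z, -⟩ := Scheme.Pullback.exists_preimage_pullback (f := f)
    (g := Spec.map (CommRingCat.ofHom (algebraMap R R'))) x (closedPoint R') (hx.trans comap_closedPoint'.symm)
  exact ⟨z⟩

/-- Nonempty clopen subsets of the complement meet the base change. -/
theorem clopen_eq_empty {X Y : Scheme.{u}} (f : X ⟶ Spec (CommRingCat.of R)) [IsProper f] {k : Y ⟶ X}
    {g : Y ⟶ Spec (CommRingCat.of R')}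
    (sq : IsPullback k g f (Spec.map (CommRingCat.ofHom (algebraMap R R'))))
    {r : ℕ} (t : Fin r → Γ(X, ⊤)) (hD : SGA1t.IsRelSNC f t)
    (hle : SGA1t.compl (fun i => k.appTop (t i)) ≤ k ⁻¹ᵁ SGA1t.compl t)
    (E : Set (SGA1t.compl t : Scheme.{u})) (hE : IsClopen E)
    (h : (k.resLE (SGA1t.compl t) (SGA1t.compl (fun i => k.appTop (t i))) hle) ⁻¹' E = ∅) : E = ∅ := by
  classical
  by_contra hne
  obtain ⟨u, hu⟩ := Set.nonempty_iff_ne_empty.2 hne
  let U := SGA1t.compl t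
  let U' := SGA1t.compl (fun i => k.appTop (t i))
  let j : C((U : Scheme.{u}), X) := ⟨U.ι, U.ι.continuous⟩
  have hr : Set.range j = (U : Set X) := Scheme.Opens.range_ι U
  obtain ⟨l, hl⟩ := (Groth.Agent.Pi1.H404.TopExt.comap_bijective (A := Fin 2) j U.ι.isOpenEmbedding (fun x => by
    rw [hr]
    exact Groth.Agent.Pi1.H404.LocExt.extAt hD x)).2 (LocallyConstant.ofIsClopen hE)
  have hmem : ∀ x : (U : Scheme.{u}), l (U.ι x) = 0 ↔ x ∈ E := by
    intro x
    have h1 : l (U.ι x) = LocallyConstant.ofIsClopen hE x := congrArg (fun m => m x) hl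
    rw [h1]
    have h2 := LocallyConstant.ofIsClopen_fiber_zero hE
    constructor
    · intro h3
      rw [← h2]
      exact h3
    · intro h3
      rw [← h2] at h3
      exact h3
  have hcl : IsClosed (l ⁻¹' {0}) := (l.2.isClopen_fiber 0).1
  have hop : IsOpen (l ⁻¹' {0}) := (l.2.isClopen_fiber 0).2
  obtain ⟨x, hx, hx'⟩ := exists_mem_closedFibre f (l ⁻¹' {0}) hcl ⟨U.ι u, (hmem u).2 hu⟩
  obtain ⟨v, hv, -⟩ := Scheme.Pullback.exists_preimage_pullback (f := f)
    (g := Spec.map (CommRingCat.ofHom (algebraMap R R'))) x (closedPoint R') (hx'.trans comap_closedPoint'.symm)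
  let v' : Y := sq.isoPullback.inv v
  have hv' : k v' = x := by
    rw [← hv, ← Scheme.Hom.comp_apply, sq.isoPullback_inv_fst]
  have hdense := Groth.Agent.Pi1.H404.TopExt.dense_of_extAt
    (fun y => Groth.Agent.Pi1.H404.LocExt.extAt (Groth.Agent.Pi1.H403.RelSNCBase.isRelSNC_of_isPullback sq hD) y)
  obtain ⟨w, hw1, hw2⟩ := hdense.inter_open_nonempty (k ⁻¹' (l ⁻¹' {0})) (hop.preimage k.continuous)
    ⟨v', by change k v' ∈ l ⁻¹' {0}; rw [hv']; exact hx⟩
  have hw3 : (⟨w, hw2⟩ : (U' : Scheme.{u})) ∈ (k.resLE U U' hle) ⁻¹' E := by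
    change (k.resLE U U' hle) ⟨w, hw2⟩ ∈ E
    rw [← hmem, ← Scheme.Hom.comp_apply, Scheme.Hom.resLE_comp_ι]
    exact hw1
  rw [h] at hw3
  exact hw3

end Local

end K546.Main
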