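import Groth.Agent.Pi1.K546.Def
import Groth.Agent.Pi1.K154.RootCov
import Groth.Agent.Sga4h.H918.Root
import Mathlib.AlgebraicGeometry.Morphisms.Finite
import Mathlib.FieldTheory.Separable

/-!
# Existence of the cover of `n`-th roots of the equations of a relative normal crossings divisor

`exists_roots`: for a relative strict normal crossings divisor cut out by global functions `t i` and `n` invertible
on `X`, the cover adjoining `n`-th roots `z i` of all `t i` exists, is finite and surjective, and the `z i` cut out a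
relative strict normal crossings divisor on it.
-/

set_option autoImplicit false
universe u

open CategoryTheory CategoryTheory.Limits AlgebraicGeometry

namespace K546.Roots

open K154.RootCov Groth.Agent.Pi1.H404

/-- A function which is nowhere zero is a unit. -/
theorem isUnit_of_mem_basicOpen {X : Scheme.{u}} (a : Γ(X, ⊤)) (h : ∀ x : X, x ∈ X.basicOpen a) : IsUnit a :=
  X.toRingedSpace.isUnit_of_isUnit_germ ⊤ a (fun x _ => (X.mem_basicOpen_top a x).1 (h x))

/-- A number which is a unit in all residue fields is a unit. -/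
theorem isUnit_natCast {X : Scheme.{u}} (n : ℕ) (hnu : ∀ x : X, IsUnit ((n : ℕ) : X.residueField x)) :
    IsUnit ((n : ℕ) : Γ(X, ⊤)) := by
  refine isUnit_of_mem_basicOpen _ fun x => ?_
  have h1 : X.evaluation ⊤ x trivial ((n : ℕ) : Γ(X, ⊤)) = ((n : ℕ) : X.residueField x) := map_natCast _ n
  exact (X.evaluation_ne_zero_iff_mem_basicOpen x (U := ⊤) trivial _).1 (h1 ▸ (hnu x).ne_zero)

section Standard

variable {X : Scheme.{u}} (t : Γ(X, ⊤)) (n : ℕ)

/-- The polynomial `T ^ n - t`. -/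
noncomputable abbrev P : Polynomial Γ(X, ⊤) := Polynomial.X ^ n - Polynomial.C t

/-- The standard root cover. -/
theorem isRoot_T : IsRoot (Groth.Agent.Sga4h.H918.Root.π (P t n)) t n (Groth.Agent.Sga4h.H918.Root.x (P t n)) where
  pow := by
    have h := (Groth.Agent.Sga4h.H918.Root.isRoot (P := P t n)).eval_eq
    rw [Polynomial.eval₂_sub, Polynomial.eval₂_X_pow, Polynomial.eval₂_C] at h
    exact sub_eq_zero.1 h
  univ {Z} a y hy := by
    have h := Groth.Agent.Sga4h.H918.Root.isRoot (P := P t n)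
    obtain ⟨k, hk1, hk2⟩ := h.exists_lift a y (by
      rw [Polynomial.eval₂_sub, Polynomial.eval₂_X_pow, Polynomial.eval₂_C, hy]
      exact sub_self _)
    exact ⟨k, ⟨hk1, hk2⟩, fun c hc => h.uniq c k (hc.1.trans hk1.symm) (hc.2.trans hk2.symm)⟩

variable {n}

theorem monic_P (hn : n ≠ 0) : (P t n).Monic := Polynomial.monic_X_pow_sub_C t hn

theorem isFinite_T (hn : n ≠ 0) : IsFinite (Groth.Agent.Sga4h.H918.Root.π (P t n)) := by
  have h1 : Module.Finite Γ(X, ⊤) (AdjoinRoot (P t n)) := (monic_P t hn).finite_adjoinRoot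
  have h2 : IsFinite (Spec.map (Groth.Agent.Sga4h.H918.Root.of (P t n))) := by
    rw [IsFinite.SpecMap_iff]
    exact RingHom.finite_algebraMap.2 h1
  exact inferInstanceAs (IsFinite (pullback.snd (Spec.map (Groth.Agent.Sga4h.H918.Root.of (P t n))) X.toSpecΓ))

theorem surjective_T (hn : n ≠ 0) : Surjective (Groth.Agent.Sga4h.H918.Root.π (P t n)) := by
  refine ⟨fun x => ?_⟩
  by_cases hX : Nontrivial Γ(X, ⊤)
  · exact (Groth.Agent.Sga4h.H918.Root.isRoot (P := P t n)).surjective (monic_P t hn)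
      (by rw [Polynomial.natDegree_X_pow_sub_C]; exact hn) x
  · exfalso
    rw [not_nontrivial_iff_subsingleton] at hX
    have h1 : X.presheaf.germ ⊤ x trivial (1 : Γ(X, ⊤)) = X.presheaf.germ ⊤ x trivial (0 : Γ(X, ⊤)) := by
      rw [Subsingleton.elim (1 : Γ(X, ⊤)) 0]
    rw [map_one, map_zero] at h1
    exact one_ne_zero h1

end Standard

/-- Root covers of invertible functions are étale when the exponent is invertible. -/
theorem etale_of_isRoot {X X' : Scheme.{u}} {p : X' ⟶ X} {t : Γ(X, ⊤)} {n : ℕ} {z : Γ(X', ⊤)}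
    (h : IsRoot p t n z) (hn : n ≠ 0) (ht : IsUnit t) (hu : IsUnit ((n : ℕ) : Γ(X, ⊤))) : Etale p := by
  have h' := isRoot_T t n
  obtain ⟨b, ⟨hb1, hb2⟩, -⟩ := h'.univ p z h.pow
  obtain ⟨c, ⟨hc1, hc2⟩, -⟩ := h.univ _ _ h'.pow
  have e1 : b ≫ c = 𝟙 X' := by
    obtain ⟨k, -, hk⟩ := h.univ p z h.pow
    rw [hk (b ≫ c) ⟨by rw [Category.assoc, hc1, hb1], by
      rw [Scheme.Hom.comp_appTop, CommRingCat.comp_apply, hc2, hb2]⟩]
    exact (hk (𝟙 X') ⟨Category.id_comp _, by simp⟩).symm
  have e2 : c ≫ b = 𝟙 _ := by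
    obtain ⟨k, -, hk⟩ := h'.univ _ _ h'.pow
    rw [hk (c ≫ b) ⟨by rw [Category.assoc, hb1, hc1], by
      rw [Scheme.Hom.comp_appTop, CommRingCat.comp_apply, hb2, hc2]⟩]
    exact (hk (𝟙 _) ⟨Category.id_comp _, by simp⟩).symm
  have : IsIso b := ⟨c, e1, e2⟩
  have : Etale (Groth.Agent.Sga4h.H918.Root.π (P t n)) := by
    obtain ⟨t, rfl⟩ := ht
    exact Groth.Agent.Sga4h.H918.Root.etale (monic_P _ hn) (Polynomial.separable_X_pow_sub_C_unit t hu)
  rw [← hb1]
  infer_instance

/-- Adjoining a root of one of the equations of a relative strict normal crossings divisor. -/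
theorem isRelSNC_update {X X' S : Scheme.{u}} {f : X ⟶ S} {r : ℕ} {t : Fin r → Γ(X, ⊤)}
    (hD : SGA1t.IsRelSNC f t) (k : Fin r) {p : X' ⟶ X} {n : ℕ} (hn : n ≠ 0)
    (hu : IsUnit ((n : ℕ) : Γ(X, ⊤))) {w : Γ(X', ⊤)} (h : IsRoot p (t k) n w) :
    SGA1t.IsRelSNC (p ≫ f) (Function.update (fun i => p.appTop (t i)) k w) := by
  classical
  intro x' hx'
  have hzk : Function.update (fun i => p.appTop (t i)) k w k = w := Function.update_self ..
  have hzi : ∀ i, i ≠ k → Function.update (fun i => p.appTop (t i)) k w i = p.appTop (t i) := fun i hi =>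
    Function.update_of_ne hi ..
  generalize Function.update (fun i => p.appTop (t i)) k w = z at hx' hzk hzi ⊢
  -- `z i` vanishes at `x'` exactly when `t i` vanishes at `p x'`
  have hv : ∀ i, x' ∉ X'.basicOpen (z i) ↔ p x' ∉ X.basicOpen (t i) := by
    intro i
    rw [not_iff_not]
    have h2 : p x' ∈ X.basicOpen (t i) ↔ x' ∈ p ⁻¹ᵁ X.basicOpen (t i) := Iff.rfl
    rw [h2, Scheme.preimage_basicOpen_top]
    by_cases hi : i = k
    · subst hi
      rw [hzk, ← h.pow, Scheme.basicOpen_pow _ _ (Nat.pos_of_ne_zero hn)]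
    · rw [hzi i hi]
  obtain ⟨⟨i₁, hi₁⟩⟩ := hx'
  obtain ⟨W, hxW, d, v, e, he, hE, hve⟩ := hD (p x') ⟨⟨i₁, (hv i₁).1 hi₁⟩⟩
  let τ : SGA1t.vanishingAt z x' → SGA1t.vanishingAt t (p x') := fun i => ⟨i.1, (hv i.1).1 i.2⟩
  have hτ : Function.Injective τ := by
    rintro ⟨a, ha⟩ ⟨b, hb⟩ hab
    have h1 : a = b := congrArg (fun s : SGA1t.vanishingAt t (p x') => s.1) hab
    subst h1
    rfl
  have hve' : ∀ i, v (ULift.up (e i)) = W.ι.appTop (t i.1) := fun i => by
    rw [hve i, Chart.ι_appTop_apply]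
  by_cases hk : p x' ∈ X.basicOpen (t k)
  · -- the function `t k` is invertible near `p x'`
    let W₁ : X.Opens := W ⊓ X.basicOpen (t k)
    let j : (W₁ : Scheme.{u}) ⟶ W := X.homOfLE inf_le_left
    have hj : j ≫ W.ι = W₁.ι := X.homOfLE_ι _
    have hroot : IsRoot (p ∣_ W₁) (W₁.ι.appTop (t k)) n ((p ⁻¹ᵁ W₁).ι.appTop w) :=
      h.bc (isPullback_morphismRestrict p W₁).flip
    have hq : Etale (p ∣_ W₁) := by
      refine etale_of_isRoot hroot hn ?_ ?_
      · refine isUnit_of_mem_basicOpen _ fun y => ?_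
        rw [← Scheme.preimage_basicOpen_top]
        exact y.2.2
      · have := hu.map W₁.ι.appTop.hom
        rwa [map_natCast] at this
    refine ⟨p ⁻¹ᵁ W₁, ⟨hxW, hk⟩, d, fun i => ((p ∣_ W₁) ≫ j).appTop (v i), e ∘ τ, he.comp hτ, ?_, ?_⟩
    · have h1 : AffineSpace.homOfVector ((p ⁻¹ᵁ W₁).ι ≫ p ≫ f) (fun i => ((p ∣_ W₁) ≫ j).appTop (v i)) =
          (p ∣_ W₁) ≫ j ≫ AffineSpace.homOfVector (W.ι ≫ f) v := by
        rw [← Category.assoc (p ∣_ W₁), AffineSpace.comp_homOfVector]
        congr 1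
        rw [Category.assoc, reassoc_of% hj, ← Category.assoc (p ∣_ W₁), morphismRestrict_ι, Category.assoc]
      rw [h1]
      infer_instance
    · intro i
      obtain ⟨i, hi⟩ := i
      have hik : i ≠ k := by
        rintro rfl
        exact (hv i).1 hi hk
      rw [Chart.ι_appTop_apply]
      refine (congrArg ((p ∣_ W₁) ≫ j).appTop (hve' (τ ⟨i, hi⟩))).trans ?_
      rw [hzi i hik]
      change ((p ∣_ W₁) ≫ j).appTop (W.ι.appTop (t i)) = _
      rw [← CommRingCat.comp_apply, ← CommRingCat.comp_apply,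
        ← Scheme.Hom.comp_appTop, ← Scheme.Hom.comp_appTop, Category.assoc, hj, morphismRestrict_ι]
  · -- the function `t k` vanishes at `p x'`
    let i₀ : SGA1t.vanishingAt t (p x') := ⟨k, hk⟩
    have hroot : IsRoot (p ∣_ W) (v (ULift.up (e i₀))) n ((p ⁻¹ᵁ W).ι.appTop w) := by
      rw [hve' i₀]
      exact h.bc (isPullback_morphismRestrict p W).flip
    refine ⟨p ⁻¹ᵁ W, hxW, d, vv (p ∣_ W) v (ULift.up (e i₀)) ((p ⁻¹ᵁ W).ι.appTop w), e ∘ τ, he.comp hτ, ?_, ?_⟩
    · have h1 := etale_homOfVector hroot (W.ι ≫ f) hE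
      rw [← Category.assoc, morphismRestrict_ι, Category.assoc] at h1
      exact h1
    · rintro ⟨i, hi⟩
      rw [Chart.ι_appTop_apply]
      by_cases hik : i = k
      · subst hik
        rw [hzk]
        exact Function.update_self ..
      · have h1 : (ULift.up ((e ∘ τ) ⟨i, hi⟩) : ULift.{u} (Fin d)) ≠ ULift.up (e i₀) := by
          intro h2
          exact hik (congrArg (fun s : SGA1t.vanishingAt t (p x') => s.1) (he (ULift.up_injective h2)))
        rw [vv, Function.update_of_ne h1]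
        refine (congrArg (p ∣_ W).appTop (hve' (τ ⟨i, hi⟩))).trans ?_
        rw [hzi i hik]
        change (p ∣_ W).appTop (W.ι.appTop (t i)) = _
        rw [← CommRingCat.comp_apply, ← CommRingCat.comp_apply, ← Scheme.Hom.comp_appTop,
          ← Scheme.Hom.comp_appTop, morphismRestrict_ι]

/-- Adjoining one more root. -/
theorem isRoots_update {X X₁ X₂ : Scheme.{u}} {p₁ : X₁ ⟶ X} {r : ℕ} {t : Fin r → Γ(X, ⊤)} {m : Fin r → ℕ}
    {z₁ : Fin r → Γ(X₁, ⊤)} (h : IsRoots p₁ t m z₁) (k : Fin r) (hm : m k = 1) {p₂ : X₂ ⟶ X₁} {n : ℕ}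
    {w : Γ(X₂, ⊤)} (h₂ : IsRoot p₂ (z₁ k) n w) :
    IsRoots (p₂ ≫ p₁) t (Function.update m k n) (Function.update (fun i => p₂.appTop (z₁ i)) k w) where
  pow i := by
    by_cases hi : i = k
    · subst hi
      have h1 := h.pow i
      rw [hm, pow_one] at h1
      rw [Function.update_self, Function.update_self, h₂.pow, h1, Scheme.Hom.comp_appTop, CommRingCat.comp_apply]
    · rw [Function.update_of_ne hi, Function.update_of_ne hi, ← map_pow, h.pow, Scheme.Hom.comp_appTop,
        CommRingCat.comp_apply]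
  univ {Q} a y hy := by
    obtain ⟨b₁, ⟨hb1, hb2⟩, hb3⟩ := h.univ a (Function.update y k (y k ^ n)) (by
      intro i
      have h1 := hy i
      by_cases hi : i = k
      · subst hi
        rw [Function.update_self] at h1 ⊢
        rw [hm, pow_one, h1]
      · rw [Function.update_of_ne hi] at h1 ⊢
        exact h1)
    obtain ⟨b₂, ⟨hc1, hc2⟩, hc3⟩ := h₂.univ b₁ (y k) (by rw [hb2 k, Function.update_self])
    refine ⟨b₂, ⟨by rw [reassoc_of% hc1, hb1], fun i => ?_⟩, ?_⟩
    · by_cases hi : i = k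
      · subst hi
        rw [Function.update_self, hc2]
      · rw [Function.update_of_ne hi, ← CommRingCat.comp_apply, ← Scheme.Hom.comp_appTop, hc1, hb2,
          Function.update_of_ne hi]
    · rintro c ⟨h1, h2⟩
      have hcw : c.appTop w = y k := by
        have := h2 k
        rwa [Function.update_self] at this
      refine hc3 c ⟨hb3 (c ≫ p₂) ⟨by rw [Category.assoc, h1], fun i => ?_⟩, hcw⟩
      by_cases hi : i = k
      · subst hi
        rw [Function.update_self, Scheme.Hom.comp_appTop, CommRingCat.comp_apply, ← h₂.pow, map_pow, hcw]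
      · have h3 := h2 i
        rw [Function.update_of_ne hi] at h3
        rw [Function.update_of_ne hi, Scheme.Hom.comp_appTop, CommRingCat.comp_apply, h3]

/-- The cover adjoining roots of the functions with index in a finite set. -/
theorem exists_roots_aux {X S : Scheme.{u}} (f : X ⟶ S) {r : ℕ} (t : Fin r → Γ(X, ⊤)) (hD : SGA1t.IsRelSNC f t)
    (n : ℕ) (hn : n ≠ 0) (hu : IsUnit ((n : ℕ) : Γ(X, ⊤))) (T : Finset (Fin r)) :
    ∃ (X' : Scheme.{u}) (p : X' ⟶ X) (z : Fin r → Γ(X', ⊤)),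
      IsRoots p t (fun i => if i ∈ T then n else 1) z ∧ IsFinite p ∧ Surjective p ∧ SGA1t.IsRelSNC (p ≫ f) z := by
  induction T using Finset.induction_on with
  | empty =>
    refine ⟨X, 𝟙 X, t, ⟨fun i => by simp, fun {P} a y hy => ?_⟩, inferInstance, inferInstance, ?_⟩
    · refine ⟨a, ⟨Category.comp_id _, fun i => ?_⟩, fun b hb => ?_⟩
      · have := hy i
        simpa using this.symm
      · rw [← hb.1, Category.comp_id]
    · rw [Category.id_comp]; exact hD
  | insert k T hk ih =>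
    obtain ⟨X₁, p₁, z₁, h1, h2, h3, h4⟩ := ih
    have hu₁ : IsUnit ((n : ℕ) : Γ(X₁, ⊤)) := by
      have := hu.map p₁.appTop.hom
      rwa [map_natCast] at this
    have hr := isRoot_T (z₁ k) n
    have hf := isFinite_T (z₁ k) hn
    have hs := surjective_T (z₁ k) hn
    have hD₂ := isRelSNC_update h4 k hn hu₁ hr
    have hadj := isRoots_update h1 k (by simp [hk]) hr
    have e : (fun i => if i ∈ insert k T then n else 1) = Function.update (fun i => if i ∈ T then n else 1) k n := by
      funext i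
      by_cases hi : i = k
      · subst hi; simp
      · simp [hi]
    rw [e]
    exact ⟨_, _, _, hadj, inferInstance, inferInstance, by rw [Category.assoc]; exact hD₂⟩

/-- **Existence of the cover of `n`-th roots** of the equations of a relative strict normal crossings divisor. -/
theorem exists_roots {X S : Scheme.{u}} (f : X ⟶ S) {r : ℕ} (t : Fin r → Γ(X, ⊤)) (hD : SGA1t.IsRelSNC f t)
    (n : ℕ) (hn : n ≠ 0) (hnu : ∀ x : X, IsUnit ((n : ℕ) : X.residueField x)) :
    ∃ (X' : Scheme.{u}) (p : X' ⟶ X) (z : Fin r → Γ(X', ⊤)),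
      IsRoots p t (fun _ => n) z ∧ IsFinite p ∧ Surjective p ∧ SGA1t.IsRelSNC (p ≫ f) z := by
  obtain ⟨X', p, z, h1, h2, h3, h4⟩ := exists_roots_aux f t hD n hn (isUnit_natCast n hnu) Finset.univ
  exact ⟨X', p, z, by simpa using h1, h2, h3, h4⟩

end K546.Roots
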