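import Groth.Agent.Pi1.K546.Stmts
import Groth.Agent.Pi1.K546.Ext
import Groth.Agent.Pi1.H385.AbsG
import Groth.Agent.Pi1.H416.SHProper
import Groth.Agent.S3689
import Groth.Agent.S3692

/-!
# The Kummer modification of a proper scheme with a relative strict normal crossings divisor

`R → R'` a local homomorphism of strictly henselian local rings, `X` proper over `R` with equations `t` of a strict
normal crossings divisor relative to `R`, `U` its complement, `Y = X ×_R R'`. `KumData n` collects the scheme of `n`-th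
roots of the equations over `X`, its base change to `Y`, their parts over the complements, the action of the roots of
unity, and the extension of principal covers of order `n`.
-/

set_option autoImplicit false
universe u

open CategoryTheory CategoryTheory.Limits AlgebraicGeometry IsLocalRing

namespace K546.Setup

open Groth.Agent.Pi1.H385.FF Groth.Agent.Pi1.H385.AbsM Groth.Agent.Pi1.H385.GaloisDesc

/-- The Kummer modification and its properties. -/
structure KumData (n : ℕ) {T₁ U₁ U₂ : Scheme.{u}} (q₁ : U₁ ⟶ T₁) (y : U₂ ⟶ U₁) where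
  U₁' : Scheme.{u}
  U₂' : Scheme.{u}
  X₁ : Scheme.{u}
  X₂ : Scheme.{u}
  ϖ₁ : U₁' ⟶ U₁
  ϖ₂ : U₂' ⟶ U₂
  y' : U₂' ⟶ U₁'
  i₁ : U₁' ⟶ X₁
  i₂ : U₂' ⟶ X₂
  x : X₂ ⟶ X₁
  sqU : IsPullback y' ϖ₂ ϖ₁ y
  w : i₂ ≫ x = y' ≫ i₁
  eqv : (FEt.restrict x).IsEquivalence
  ff₁ : FF i₁
  ff₂ : FF i₂
  int : IsIntegralHom ϖ₁
  surj : Surjective ϖ₁
  Γ : Type
  grp : Group Γ
  fin : Finite Γ
  A : Act ϖ₁ Γ
  τ : Γ → (X₁ ⟶ X₁)
  hτ : ∀ γ, A.r γ ≫ i₁ = i₁ ≫ τ γ
  hF : ∀ γ, γ ≠ 1 → IsProper (equalizer.ι (A.r γ) (𝟙 _) ≫ ϖ₁ ≫ q₁)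
  ext₁ : ∀ (G : Type) [Group G] [Finite G], Nat.card G = n → ∀ (P : FEt.Cat U₁) (ρ : G →* Aut P),
    SGA1t.IsPrincipal G P ρ → Ext ϖ₁ i₁ P.hom
  ext₂ : ∀ (G : Type) [Group G] [Finite G], Nat.card G = n → ∀ (P : FEt.Cat U₂) (ρ : G →* Aut P),
    SGA1t.IsPrincipal G P ρ → Ext ϖ₂ i₂ P.hom

theorem isProper_of_isEmpty {X Y : Scheme.{u}} (f : X ⟶ Y) (h : IsEmpty X) : IsProper f := by
  have h1 : IsOpenImmersion f := inferInstance
  have h2 : IsClosedImmersion f := by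
    apply IsClosedImmersion.of_isPreimmersion
    rw [Set.range_eq_empty]
    exact isClosed_empty
  infer_instance

/-- the unit in the residue fields -/
theorem isUnit_natCast_residueField {R : Type u} [CommRing R] {X : Scheme.{u}} (f : X ⟶ Spec (CommRingCat.of R))
    (n : ℕ) (hn : IsUnit (n : R)) (x : X) : IsUnit ((n : ℕ) : X.residueField x) := by
  have h1 := hn.map ((X.presheaf.germ ⊤ x trivial ≫ X.residue x).hom.comp
    (((Scheme.ΓSpecIso (CommRingCat.of R)).inv ≫ f.appTop).hom))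
  rwa [map_natCast] at h1

theorem exists_kumData (hRoots : RootsStmt.{u}) (hAct : ActStmt.{u}) {R R' : Type u} [CommRing R] [CommRing R']
    [HenselianLocalRing R] [HenselianLocalRing R'] [IsSepClosed (ResidueField R)] [IsSepClosed (ResidueField R')]
    [Algebra R R'] [IsLocalHom (algebraMap R R')] {X Y : Scheme.{u}} (f : X ⟶ Spec (CommRingCat.of R)) [IsProper f]
    {k : Y ⟶ X} {g : Y ⟶ Spec (CommRingCat.of R')}
    (sq : IsPullback k g f (Spec.map (CommRingCat.ofHom (algebraMap R R'))))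
    {r : ℕ} (t : Fin r → Γ(X, ⊤)) (hD : SGA1t.IsRelSNC f t) (n : ℕ) (hn : IsUnit (n : R))
    (hle : SGA1t.compl (fun i => k.appTop (t i)) ≤ k ⁻¹ᵁ SGA1t.compl t) :
    Nonempty (KumData n ((SGA1t.compl t).ι ≫ f)
      (k.resLE (SGA1t.compl t) (SGA1t.compl (fun i => k.appTop (t i))) hle)) := by
  have hn0 : n ≠ 0 := by
    rintro rfl
    rw [Nat.cast_zero] at hn
    exact not_isUnit_zero hn
  obtain ⟨X₁, p, z, hz, hfin, hsurj, hDz⟩ := hRoots f t hD n hn0 (isUnit_natCast_residueField f n hn)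
  obtain ⟨Γ, _, _, A, τ, hτ, hemp⟩ := hAct n hn f p t z hz
  let x : pullback p k ⟶ X₁ := pullback.fst p k
  let p₂ : pullback p k ⟶ Y := pullback.snd p k
  have sqx : IsPullback x p₂ p k := IsPullback.of_hasPullback p k
  have hcm : SGA1t.compl (fun i => k.appTop (t i)) = k ⁻¹ᵁ SGA1t.compl t :=
    Groth.Agent.Pi1.H404.RelSNCBC.compl_pb k
  have sqxf : IsPullback x (p₂ ≫ g) (p ≫ f) (Spec.map (CommRingCat.ofHom (algebraMap R R'))) :=
    sqx.paste_vert sq
  have hD₂ : SGA1t.IsRelSNC g (fun i => k.appTop (t i)) :=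
    Groth.Agent.Pi1.H403.RelSNCBase.isRelSNC_of_isPullback sq hD
  have hDz₂ : SGA1t.IsRelSNC (p₂ ≫ g) (fun i => x.appTop (z i)) :=
    Groth.Agent.Pi1.H403.RelSNCBase.isRelSNC_of_isPullback sqxf hDz
  have hz₂ : ∀ i, (fun i => x.appTop (z i)) i ^ n = p₂.appTop ((fun i => k.appTop (t i)) i) := by
    intro i
    change x.appTop (z i) ^ n = p₂.appTop (k.appTop (t i))
    rw [← map_pow, hz.pow i, ← CommRingCat.comp_apply, ← CommRingCat.comp_apply, ← Scheme.Hom.comp_appTop,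
      ← Scheme.Hom.comp_appTop, sqx.w]
  -- the square over the opens
  let U := SGA1t.compl t
  let U' := SGA1t.compl (fun i => k.appTop (t i))
  have sq1 : IsPullback ((p₂ ⁻¹ᵁ U').ι ≫ x) (p₂ ∣_ U') p (U'.ι ≫ k) :=
    (isPullback_morphismRestrict p₂ U').flip.paste_horiz sqx
  have sq3 : IsPullback (p ⁻¹ᵁ U).ι (p ∣_ U) p U.ι := (isPullback_morphismRestrict p U).flip
  have h1 : k.resLE U U' hle ≫ U.ι = U'.ι ≫ k := Scheme.Hom.resLE_comp_ι k hle
  have h2 : ((p₂ ⁻¹ᵁ U').ι ≫ x) ≫ p = ((p₂ ∣_ U') ≫ k.resLE U U' hle) ≫ U.ι := by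
    rw [Category.assoc (p₂ ∣_ U'), h1]; exact sq1.w
  have h3 : sq3.lift _ _ h2 ≫ (p ⁻¹ᵁ U).ι = (p₂ ⁻¹ᵁ U').ι ≫ x := sq3.lift_fst _ _ _
  have sqU : IsPullback (sq3.lift _ _ h2) (p₂ ∣_ U') (p ∣_ U) (k.resLE U U' hle) := by
    refine IsPullback.of_right (h₁₂ := (p ⁻¹ᵁ U).ι) (v₁₃ := p) (h₂₂ := U.ι) ?_ (sq3.lift_snd _ _ _) sq3
    rw [sq3.lift_fst, h1]
    exact sq1
  have ff₁ : FF (p ⁻¹ᵁ U).ι := by
    have h4 : p ⁻¹ᵁ U = SGA1t.compl z := Ext.preimage_compl p hn0 hz.pow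
    have h5 : ∀ O : X₁.Opens, O = SGA1t.compl z → FF O.ι := by
      rintro _ rfl
      exact Ext.ff hDz
    exact h5 _ h4
  have ff₂ : FF (p₂ ⁻¹ᵁ U').ι := by
    have h4 : p₂ ⁻¹ᵁ U' = SGA1t.compl (fun i => x.appTop (z i)) := Ext.preimage_compl p₂ hn0 hz₂
    have h5 : ∀ O : (pullback p k).Opens, O = SGA1t.compl (fun i => x.appTop (z i)) → FF O.ι := by
      rintro _ rfl
      exact Ext.ff hDz₂
    exact h5 _ h4
  have hp₂ : IsFinite p₂ := inferInstance
  have hnr := isUnit_natCast_residueField f n hn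
  have hn' : IsUnit (n : R') := by
    have := hn.map (algebraMap R R')
    rwa [map_natCast] at this
  have hnr' := isUnit_natCast_residueField g n hn'
  refine ⟨{
    U₁' := (p ⁻¹ᵁ U : X₁.Opens)
    U₂' := (p₂ ⁻¹ᵁ U' : (pullback p k).Opens)
    X₁ := X₁
    X₂ := pullback p k
    ϖ₁ := p ∣_ U
    ϖ₂ := p₂ ∣_ U'
    y' := sq3.lift _ _ h2
    i₁ := (p ⁻¹ᵁ U).ι
    i₂ := (p₂ ⁻¹ᵁ U').ι
    x := x
    sqU := sqU
    w := h3.symm
    eqv := ?_
    ff₁ := ff₁
    ff₂ := ff₂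
    int := MorphismProperty.of_isPullback (P := @IsIntegralHom) sq3 inferInstance
    surj := MorphismProperty.of_isPullback (P := @Surjective) sq3 inferInstance
    Γ := Γ
    grp := inferInstance
    fin := inferInstance
    A := A
    τ := τ
    hτ := hτ
    hF := fun γ hγ => isProper_of_isEmpty _ (hemp γ hγ)
    ext₁ := ?_
    ext₂ := ?_ }⟩
  · have : IsProper (p ≫ f) := inferInstance
    exact Groth.Agent.Pi1.H416.SepField.isEquivalence_of_isPullback sqxf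
      (Groth.Agent.Pi1.H416.SHProper.restrict_isEquivalence R R' (p ≫ f))
  · intro G _ _ hG P ρ hP
    obtain ⟨W, ⟨e⟩⟩ := Ext.exists_ext Groth.Agent.S3689.result Groth.Agent.S3692.result f t hD p z G
      (by rw [hG]; exact hz.pow) hDz (fun x _ => by rw [hG]; exact hnr x) P ρ hP
    exact Groth.Agent.Pi1.H385.AbsG.ext_of_iso e
  · intro G _ _ hG P ρ hP
    obtain ⟨W, ⟨e⟩⟩ := Ext.exists_ext Groth.Agent.S3689.result Groth.Agent.S3692.result g
      (fun i => k.appTop (t i)) hD₂ p₂ (fun i => x.appTop (z i)) G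
      (by rw [hG]; exact hz₂) hDz₂ (fun x _ => by rw [hG]; exact hnr' x) P ρ hP
    exact Groth.Agent.Pi1.H385.AbsG.ext_of_iso e

end K546.Setup
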