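import Groth.Agent.Pi1.K546.Def
import Mathlib.RingTheory.Henselian
import Mathlib.FieldTheory.IsSepClosed

/-!
# The two inputs of the construction of the Kummer modification

`RootsStmt`: existence of the scheme of `n`-th roots of the equations of a relative strict normal crossings divisor;
`ActStmt`: the action of the roots of unity on it.
-/

set_option autoImplicit false
universe u

open CategoryTheory CategoryTheory.Limits AlgebraicGeometry

namespace K546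

open Groth.Agent.Pi1.H385.GaloisDesc

/-- Statement of `K546.Roots.exists_roots`. -/
def RootsStmt : Prop :=
  ∀ {X S : Scheme.{u}} (f : X ⟶ S) {r : ℕ} (t : Fin r → Γ(X, ⊤)) (_ : SGA1t.IsRelSNC f t) (n : ℕ) (_ : n ≠ 0)
    (_ : ∀ x : X, IsUnit ((n : ℕ) : X.residueField x)),
    ∃ (X' : Scheme.{u}) (p : X' ⟶ X) (z : Fin r → Γ(X', ⊤)), IsRoots p t (fun _ => n) z ∧ IsFinite p ∧
      Surjective p ∧ SGA1t.IsRelSNC (p ≫ f) z

/-- Statement of `K546.Action.exists_act`. -/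
def ActStmt : Prop :=
  ∀ {R : Type u} [CommRing R] [HenselianLocalRing R] [IsSepClosed (IsLocalRing.ResidueField R)] (n : ℕ)
    (_ : IsUnit ((n : ℕ) : R)) {X X' : Scheme.{u}} (_ : X ⟶ Spec (CommRingCat.of R)) (p : X' ⟶ X) {r : ℕ}
    (t : Fin r → Γ(X, ⊤)) (z : Fin r → Γ(X', ⊤)) (_ : IsRoots p t (fun _ => n) z),
    ∃ (Γ : Type) (_ : Group Γ) (_ : Finite Γ) (A : Act (p ∣_ SGA1t.compl t) Γ) (τ : Γ → (X' ⟶ X')),
      (∀ γ, A.r γ ≫ (p ⁻¹ᵁ SGA1t.compl t).ι = (p ⁻¹ᵁ SGA1t.compl t).ι ≫ τ γ) ∧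
        ∀ γ, γ ≠ 1 → IsEmpty ↥(equalizer (A.r γ) (𝟙 _))

end K546
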